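import Groth.Agent.Lib.ThickDesc6.Top

/-! # Derived pullback, restriction to opens and distinguished triangles -/

set_option autoImplicit false
set_option maxHeartbeats 1600000
set_option backward.isDefEq.respectTransparency false
set_option linter.style.haveILetI false
universe u

open CategoryTheory CategoryTheory.Limits AlgebraicGeometry HomologicalComplex CategoryTheory.Pretriangulated

attribute [local instance] HasDerivedCategory.standard

namespace GrothLib.ThickDesc6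

open GrothLib.OX GrothLib.KSix19

variable {X Y : Scheme.{u}} (f : X ⟶ Y)

/-- Derived pullback maps distinguished triangles to distinguished triangles, on objects. -/
theorem exists_lpull_triangle [DCoh.HasLpull f] {T : Triangle (DCoh.D Y)} (hT : T ∈ distTriang _) :
    ∃ T' : Triangle (DCoh.D X), T' ∈ distTriang _ ∧ Nonempty (T'.obj₁ ≅ (DCoh.Lpull f).obj T.obj₁) ∧
      Nonempty (T'.obj₂ ≅ (DCoh.Lpull f).obj T.obj₂) ∧ Nonempty (T'.obj₃ ≅ (DCoh.Lpull f).obj T.obj₃) := by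
  obtain ⟨A, -, ⟨eA⟩⟩ := exists_kflat_rep T.obj₁
  obtain ⟨B, hB, ⟨eB⟩⟩ := exists_kflat_rep T.obj₂
  obtain ⟨A', s, hs, g, hα⟩ := DerivedCategory.right_fac (eA.hom ≫ T.mor₁ ≫ eB.inv)
  obtain ⟨N, r, hN, -, hr, -⟩ := exists_kflat_resolution A'
  have hQr : IsIso (DerivedCategory.Q.map r) := (DerivedCategory.isIso_Q_map_iff_quasiIso _ r).2 hr
  let φ : N ⟶ B := r ≫ g
  have hT₀ := DerivedCategory.mappingCone_triangle_distinguished φ
  let e₁ : DerivedCategory.Q.obj N ≅ T.obj₁ := asIso (DerivedCategory.Q.map r ≫ DerivedCategory.Q.map s) ≪≫ eA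
  have comm : DerivedCategory.Q.map φ ≫ eB.hom = e₁.hom ≫ T.mor₁ := by
    simp only [e₁, φ, Functor.map_comp, Iso.trans_hom, asIso_hom, Category.assoc]
    refine congrArg (_ ≫ ·) ?_
    rw [← cancel_mono eB.inv, Category.assoc, Category.assoc, Category.assoc, eB.hom_inv_id, Category.comp_id, hα]
    rw [IsIso.hom_inv_id_assoc]
  let eT := isoTriangleOfIso₁₂ _ _ hT₀ hT e₁ eB comm
  obtain ⟨v₁⟩ := lpull_value f N hN
  obtain ⟨v₂⟩ := lpull_value f B hB
  obtain ⟨v₃⟩ := lpull_value f (CochainComplex.mappingCone φ) (isKFlat_mappingCone φ hN hB)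
  refine ⟨_, DerivedCategory.mappingCone_triangle_distinguished ((pullCxF f).map φ),
    ⟨v₁.symm ≪≫ (DCoh.Lpull f).mapIso e₁⟩, ⟨v₂.symm ≪≫ (DCoh.Lpull f).mapIso eB⟩,
    ⟨DerivedCategory.Q.mapIso (CochainComplex.mappingCone.mapHomologicalComplexIso φ (Scheme.Modules.pullback f)).symm ≪≫
      v₃.symm ≪≫ (DCoh.Lpull f).mapIso (Triangle.π₃.mapIso eT)⟩⟩

/-- Derived pullback commutes with restriction to opens. -/
theorem nonempty_resD_lpull [DCoh.HasLpull f] (V : Y.Opens) [DCoh.HasLpull (f ∣_ V)] (K : DCoh.D Y) :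
    Nonempty ((DCoh.Lpull (f ∣_ V)).obj ((resD V.ι).obj K) ≅
      (resD (f ⁻¹ᵁ V).ι).obj ((DCoh.Lpull f).obj K)) := by
  obtain ⟨P, hP, ⟨e⟩⟩ := exists_kflat_rep K
  obtain ⟨v⟩ := lpull_value f P hP
  obtain ⟨w⟩ := lpull_value (f ∣_ V) ((DCoh.restrictCx V).obj P) (isKFlat_restrictCx V hP)
  exact ⟨(DCoh.Lpull (f ∣_ V)).mapIso ((resD V.ι).mapIso e.symm ≪≫ (resDFac V.ι).app P) ≪≫ w ≪≫
    DerivedCategory.Q.mapIso (pullSquareCxIso f V P).symm ≪≫ ((resDFac (f ⁻¹ᵁ V).ι).app _).symm ≪≫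
    (resD (f ⁻¹ᵁ V).ι).mapIso (v.symm ≪≫ (DCoh.Lpull f).mapIso e)⟩

/-- The derived pullback of a free module in one degree is pseudo-coherent. -/
theorem pc_lpull_single_free {Z : Scheme.{u}} (W : Z.Opens) (g : X ⟶ W.toScheme) [DCoh.HasLpull g] (n : ℕ)
    (b k : ℤ) :
    DCoh.IsPseudoCoherentD k ((DCoh.Lpull g).obj (DerivedCategory.Q.obj
      ((single W.toScheme.Modules (ComplexShape.up ℤ) b).obj
        ((Scheme.Modules.restrictFunctor W.ι).obj (FlatMod.freeMod Z n))))) :=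
  isPseudoCoherent_lpull g (pc_single_free W n b k)

/-- Derived pullback is right t-exact. -/
theorem isLE_lpull [DCoh.HasLpull f] {K : DCoh.D Y} {b : ℤ} (hK : K.IsLE b) : ((DCoh.Lpull f).obj K).IsLE b := by
  obtain ⟨P, hP, ⟨e⟩⟩ := exists_kflat_rep K
  obtain ⟨v⟩ := lpull_value f P hP
  refine (DerivedCategory.isLE_iff _ _).2 fun j hj => ?_
  exact (isZero_homology_pullback f hP (fun k hk => (DerivedCategory.isZero_of_isLE K b k hk).of_iso
    ((hdIso P k).symm ≪≫ (DerivedCategory.homologyFunctor _ k).mapIso e)) j hj).of_iso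
      ((DerivedCategory.homologyFunctor _ j).mapIso ((DCoh.Lpull f).mapIso e.symm ≪≫ v) ≪≫ hdIso _ j)

end GrothLib.ThickDesc6
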