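import Groth.Agent.Lib.ThickDesc6.Bound
import Groth.Agent.Lib.KSix19.GradedPush
import Groth.Agent.Lib.ClosedHom20.Basic

/-! # The top cohomology sheaf and pullback along nilpotent thickenings -/

set_option autoImplicit false
set_option maxHeartbeats 1600000
set_option backward.isDefEq.respectTransparency false
set_option linter.style.haveILetI false
universe u

open CategoryTheory CategoryTheory.Limits AlgebraicGeometry HomologicalComplex MonoidalCategory

attribute [local instance] HasDerivedCategory.standard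

namespace GrothLib.ThickDesc6

open GrothLib.OX GrothLib.KSix19

variable {X X' : Scheme.{u}}

/-- An object bounded above by `b` is a complex of flat modules vanishing above `b`. -/
theorem exists_flat_rep_le (K : DCoh.D X) (b : ℤ) (hK : K.IsLE b) :
    ∃ P : CochainComplex X.Modules ℤ, (∀ j, b < j → IsZero (P.X j)) ∧ FlatTerms P ∧
      Nonempty (DerivedCategory.Q.obj P ≅ K) := by
  let F := DerivedCategory.Q.objPreimage K
  let e₀ : DerivedCategory.Q.obj F ≅ K := DerivedCategory.Q.objObjPreimageIso K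
  have : (DCoh.toD X F).IsLE b := (DerivedCategory.isLE_iff _ _).2 fun j hj =>
    (DerivedCategory.isZero_of_isLE K b j hj).of_iso ((DerivedCategory.homologyFunctor _ j).mapIso e₀)
  obtain ⟨P₀, t, ht, hfl, ⟨e⟩⟩ := KSix19.exists_flat_rep F b
  have hex : ∀ j, b < j → P₀.ExactAt j := fun j hj => by
    rw [exactAt_iff_isZero_homology]
    exact (DerivedCategory.isZero_of_isLE K b j hj).of_iso
      ((hdIso P₀ j).symm ≪≫ (DerivedCategory.homologyFunctor _ j).mapIso (e ≪≫ e₀))
  have hLE : P₀.IsLE b := (P₀.isLE_iff b).2 hex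
  refine ⟨P₀.truncLE b, fun j hj => CochainComplex.isZero_of_isStrictlyLE _ b j hj, fun k => ?_,
    ⟨asIso (DerivedCategory.Q.map (P₀.ιTruncLE b)) ≪≫ e ≪≫ e₀⟩⟩
  rcases lt_trichotomy k b with hk | hk | hk
  · exact flat_of_iso (P₀.truncLEXIso b k hk).symm (hfl k)
  · subst hk
    refine flat_of_iso (P₀.truncLEXIsoCycles k).symm ((GrothLib.OX.flat_iff _).2 fun x => ?_)
    let Q := (stalkCx x).obj P₀
    have hker : Module.Flat (X.presheaf.stalk x) (LinearMap.ker (Q.d k (k + 1)).hom) :=
      DR.flat_ker_of_exact Q t (fun j hj => (stalk x).map_isZero (ht j hj)) k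
        (fun j _ => (GrothLib.OX.flat_iff _).1 (hfl j) x)
        (fun j hj => by
          rw [exactAt_iff_isZero_homology]
          exact ((stalk x).map_isZero ((exactAt_iff_isZero_homology _ _).1 (hex j hj))).of_iso
            ((P₀.sc j).mapHomologyIso (stalk x))) k le_rfl
    let S := Q.sc' (k - 1) k (k + 1)
    have hS : Module.Flat (X.presheaf.stalk x) S.moduleCatLeftHomologyData.K := hker
    exact OX.flat_of_modIso ((S.moduleCatCyclesIso).symm ≪≫
      (Q.cyclesIsoSc' (k - 1) k (k + 1) (by simp) (by simp)).symm ≪≫ (P₀.sc k).mapCyclesIso (stalk x)) hS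
  · exact flat_of_isZero (CochainComplex.isZero_of_isStrictlyLE _ b k hk)

/-- The top homology of a complex vanishing above is a cokernel. -/
noncomputable def topHomologyIso {C : Type*} [Category C] [Abelian C] (P : CochainComplex C ℤ) (b : ℤ)
    (hP : IsZero (P.X (b + 1))) : P.homology b ≅ cokernel (P.d (b - 1) b) :=
  have := P.isIso_homologyι b (b + 1) (by simp) (hP.eq_of_tgt _ _)
  asIso (P.homologyι b) ≪≫
    (P.opcyclesIsCokernel (b - 1) b (by simp)).coconePointUniqueUpToIso (colimit.isColimit _)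

/-- The top cohomology sheaf of a derived pullback. -/
theorem nonempty_hd_lpull_top (f : X ⟶ X') [DCoh.HasLpull f] (K : DCoh.D X') (b : ℤ) (hK : K.IsLE b) :
    Nonempty (DCoh.HD ((DCoh.Lpull f).obj K) b ≅ (Scheme.Modules.pullback f).obj (DCoh.HD K b)) := by
  obtain ⟨P, hz, hfl, ⟨e⟩⟩ := exists_flat_rep_le K b hK
  obtain ⟨v⟩ := lpull_value f P (isKFlat_of_bounded_above P b hz hfl)
  let pb := Scheme.Modules.pullback f
  have : PreservesFiniteColimits pb := by
    have : pb.IsLeftAdjoint := (Scheme.Modules.pullbackPushforwardAdjunction f).isLeftAdjoint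
    exact PreservesColimits.preservesFiniteColimits pb
  let P' := (pb.mapHomologicalComplex (ComplexShape.up ℤ)).obj P
  exact ⟨(DerivedCategory.homologyFunctor _ b).mapIso ((DCoh.Lpull f).mapIso e.symm ≪≫ v) ≪≫ hdIso P' b ≪≫
    topHomologyIso P' b (pb.map_isZero (hz _ (by omega))) ≪≫
    (PreservesCokernel.iso pb (P.d (b - 1) b)).symm ≪≫
    pb.mapIso ((topHomologyIso P b (hz _ (by omega))).symm ≪≫ (hdIso P b).symm ≪≫
      (DerivedCategory.homologyFunctor _ b).mapIso e)⟩

/-- The unit of a surjective closed immersion is an epimorphism. -/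
theorem epi_unit {i : X ⟶ X'} (hi : Thick i) (M : X'.Modules) :
    Epi ((Scheme.Modules.pullbackPushforwardAdjunction i).unit.app M) := by
  have := hi.closed
  refine (GrothLib.OX.epi_iff _).2 fun y => (ModuleCat.epi_iff_surjective _).2 ?_
  obtain ⟨x, rfl⟩ := hi.surj y
  let φ := i.stalkMap x
  let h := QCoh.pushStalkHom i x ((Scheme.Modules.pullback i).obj M) ≫
    (ModuleCat.restrictScalars φ.hom).map ((QCoh.stalkPullbackIso i x).hom.app M)
  have h2 : Function.Bijective h.hom :=
    ((ConcreteCategory.isIso_iff_bijective ((ModuleCat.restrictScalars φ.hom).map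
      ((QCoh.stalkPullbackIso i x).hom.app M))).1 inferInstance).comp
      (QCoh.pushStalkHom_bijective i x _ i.isClosedEmbedding.isEmbedding.isInducing)
  have hu : Function.Surjective ((ModuleCat.extendRestrictScalarsAdj φ.hom).unit.app ((stalk (i x)).obj M)).hom := by
    intro t
    induction t using TensorProduct.induction_on with
    | zero => exact ⟨0, map_zero _⟩
    | tmul s m =>
      obtain ⟨r, rfl⟩ := i.stalkMap_surjective x s
      refine ⟨r • m, ?_⟩
      rw [map_smul]
      letI := φ.hom.toAlgebra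
      show (φ.hom r • (1 : X.presheaf.stalk x)) ⊗ₜ[X'.presheaf.stalk (i x)] m = φ.hom r ⊗ₜ m
      rw [smul_eq_mul, mul_one]
    | add a b ha hb =>
      obtain ⟨p, hp⟩ := ha
      obtain ⟨q, hq⟩ := hb
      exact ⟨p + q, (map_add _ _ _).trans (congrArg₂ (· + ·) hp hq)⟩
  intro t
  obtain ⟨m, hm⟩ := hu (h.hom t)
  refine ⟨m, h2.1 ?_⟩
  rw [← hm, ← QCoh.unit_stalk_comp i x M]
  rfl

/-- A morphism with epimorphic pullback along a nilpotent thickening is an epimorphism. -/
theorem epi_of_epi_pullback {i : X ⟶ X'} (hi : Thick i) {A B : X'.Modules} (f : A ⟶ B)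
    (hf : Epi ((Scheme.Modules.pullback i).map f)) : Epi f := by
  have := hi.closed
  let pb := Scheme.Modules.pullback i
  have : pb.IsLeftAdjoint := (Scheme.Modules.pullbackPushforwardAdjunction i).isLeftAdjoint
  have hC : IsZero (pb.obj (cokernel f)) := by
    have h0 : pb.map (cokernel.π f) = 0 := by
      rw [← cancel_epi (pb.map f), ← pb.map_comp, cokernel.condition, comp_zero]
      exact pb.map_zero _ _
    have : Epi (pb.map (cokernel.π f)) := inferInstance
    exact IsZero.of_epi_eq_zero _ h0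
  refine Abelian.epi_of_cokernel_π_eq_zero _ (IsZero.eq_of_tgt ((IsZero.iff_id_eq_zero _).2 ?_) _ _)
  rw [eq_zero_iff]
  intro y
  obtain ⟨x, rfl⟩ := hi.surj y
  let φ := (i.stalkMap x).hom
  let C := (stalk (i x)).obj (cokernel f)
  have hCx : IsZero ((ModuleCat.extendScalars φ).obj C) :=
    ((stalk x).map_isZero hC).of_iso ((pullStalkIso i x).app (cokernel f)).symm
  let W : Submodule (X'.presheaf.stalk (i x)) C := RingHom.ker φ • ⊤
  have hN : RingHom.ker φ • (⊤ : Submodule (X'.presheaf.stalk (i x)) (C ⧸ W)) = ⊥ := by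
    rw [← Submodule.range_mkQ W, ← Submodule.map_top, ← Submodule.map_smul'']
    exact Submodule.mkQ_map_self W
  obtain ⟨M, ⟨eM⟩⟩ := DR.exists_restrict_iso φ (i.stalkMap_surjective x) (ModuleCat.of _ (C ⧸ W)) hN
  let q : C ⟶ (ModuleCat.restrictScalars φ).obj M := ModuleCat.ofHom W.mkQ ≫ eM.inv
  have hq : q = 0 := ((ModuleCat.extendRestrictScalarsAdj φ).homEquiv C M).symm.injective (hCx.eq_of_src _ _)
  have hW : W = ⊤ := by
    have hq' : (ModuleCat.ofHom W.mkQ : C ⟶ ModuleCat.of _ (C ⧸ W)) = 0 := by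
      rw [← cancel_mono eM.inv, zero_comp]; exact hq
    exact (Submodule.ker_mkQ W).symm.trans (LinearMap.ker_eq_top.2 (congrArg ModuleCat.Hom.hom hq'))
  have hsub : Subsingleton C := by
    have hs := DR.surjective_of_nilpotent (hi.nil x) (0 : PUnit.{u + 1} →ₗ[X'.presheaf.stalk (i x)] C)
      (by rw [LinearMap.range_zero, bot_sup_eq]; exact hW)
    exact hs.subsingleton
  exact (ModuleCat.isZero_of_subsingleton C).eq_of_src _ _

/-- Restricting a nilpotent thickening. -/
theorem thick_restrict {i : X ⟶ X'} (hi : Thick i) (V : X'.Opens) : Thick (i ∣_ V) := by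
  have := hi.closed
  refine ⟨inferInstance, fun v => ?_, fun x => ?_⟩
  · obtain ⟨x, hx⟩ := hi.surj v.1
    exact ⟨⟨x, show i x ∈ V from hx ▸ v.2⟩, Subtype.ext ((morphismRestrict_base_coe i V _).trans hx)⟩
  · obtain ⟨n, hn⟩ := hi.nil x.1
    have w := (morphismRestrictStalkMap i V x).hom.w
    refine ⟨n, ?_⟩
    let e := (Arrow.leftFunc.mapIso (morphismRestrictStalkMap i V x))
    let e' := (Arrow.rightFunc.mapIso (morphismRestrictStalkMap i V x))
    have hle : Ideal.map e.hom.hom (RingHom.ker ((i ∣_ V).stalkMap x).hom) ≤ RingHom.ker (i.stalkMap x.1).hom := by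
      rw [Ideal.map_le_iff_le_comap]
      intro r hr
      have hw := ConcreteCategory.congr_hom w r
      show (i.stalkMap x.1).hom (e.hom.hom r) = 0
      refine hw.trans ?_
      show e'.hom.hom (((i ∣_ V).stalkMap x).hom r) = 0
      rw [RingHom.mem_ker.1 hr, map_zero]
    have h1 : Ideal.map e.hom.hom (RingHom.ker ((i ∣_ V).stalkMap x).hom ^ n) = ⊥ := by
      rw [Ideal.map_pow]
      exact le_bot_iff.1 ((Ideal.pow_right_mono hle n).trans hn.le)
    exact (Ideal.map_eq_bot_iff_of_injective
      (ConcreteCategory.injective_of_mono_of_preservesPullback e.hom)).1 h1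

/-- A module whose pullback along a nilpotent thickening is of finite type is locally generated by
finitely many sections. -/
theorem exists_free_epi_of_pullback {i : X ⟶ X'} (hi : Thick i) (M : X'.Modules) (x : X) {U : X.Opens}
    (hx : x ∈ U) {n : ℕ} (p : FlatMod.freeMod U.toScheme n ⟶
      (Scheme.Modules.restrictFunctor U.ι).obj ((Scheme.Modules.pullback i).obj M)) [Epi p] :
    ∃ (V : X'.Opens) (q : FlatMod.freeMod V.toScheme n ⟶ (Scheme.Modules.restrictFunctor V.ι).obj M),
      i x ∈ V ∧ Epi q := by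
  have := hi.closed
  obtain ⟨V, rfl⟩ := exists_preimage_eq i (U' := U)
  let i' := i ∣_ V
  have hi' : Thick i' := thick_restrict hi V
  let M' := (Scheme.Modules.restrictFunctor V.ι).obj M
  let adj := Scheme.Modules.pullbackPushforwardAdjunction i'
  obtain ⟨hfull, hfaith⟩ := ClosedHom20.full_faithful_pushforward i'
  let η := adj.unit.app M'
  have : Epi η := epi_unit hi' M'
  let p' : (Scheme.Modules.pullback i').obj (FlatMod.freeMod V.toScheme n) ⟶ (Scheme.Modules.pullback i').obj M' :=
    (pullFreeModIso i' n).hom ≫ p ≫ (pullSquareIso i V).hom.app M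
  have : Epi p' := @epi_comp _ _ _ _ _ _ inferInstance _ (@epi_comp _ _ _ _ _ _ inferInstance _ inferInstance)
  let g := adj.homEquiv _ _ p'
  obtain ⟨W, l, hW, hl⟩ := exists_local_lift_free η g (⟨i x, hx⟩ : V.toScheme)
  have : IsIso adj.counit := adj.counit_isIso_of_R_fully_faithful
  have : IsIso ((Scheme.Modules.pullback i').map η) := by
    have h := adj.left_triangle_components M'
    exact IsIso.of_isIso_fac_right (h := 𝟙 _) h
  have hg : Epi ((Scheme.Modules.pullback i').map g) := by
    have h : (Scheme.Modules.pullback i').map g ≫ adj.counit.app _ = p' :=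
      (adj.homEquiv_counit _ _ g).symm.trans (Equiv.symm_apply_apply _ _)
    have he : (Scheme.Modules.pullback i').map g = p' ≫ inv (adj.counit.app _) := by
      rw [← h, Category.assoc, IsIso.hom_inv_id, Category.comp_id]
    rw [he]; infer_instance
  let R := Scheme.Modules.restrictFunctor W.ι
  let sq := pullSquareIso i' W
  let pW := Scheme.Modules.pullback (i' ∣_ W)
  have h1 : IsIso (pW.map (R.map η)) := (NatIso.isIso_map_iff sq η).1
    (inferInstanceAs (IsIso ((Scheme.Modules.restrictFunctor (i' ⁻¹ᵁ W).ι).map ((Scheme.Modules.pullback i').map η))))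
  have h2 : Epi (pW.map (R.map g)) :=
    ((MorphismProperty.epimorphisms _).arrow_mk_iso_iff (Arrow.isoMk (sq.app _) (sq.app _) (sq.hom.naturality g).symm)).1
      (inferInstanceAs (Epi ((Scheme.Modules.restrictFunctor (i' ⁻¹ᵁ W).ι).map ((Scheme.Modules.pullback i').map g))))
  have hle : pW.map l = pW.map (R.map g) ≫ inv (pW.map (R.map η)) := by
    rw [← hl, Functor.map_comp, Category.assoc, IsIso.hom_inv_id, Category.comp_id]
  have h3 : Epi (pW.map l) := by rw [hle]; infer_instance
  have hl' : Epi l := epi_of_epi_pullback (thick_restrict hi' W) l h3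
  let jj := W.ι ≫ V.ι
  have hjj : jj.isoOpensRange.inv ≫ jj = jj.opensRange.ι := by
    rw [Iso.inv_comp_eq, Scheme.Hom.isoOpensRange_hom_ι]
  let c := Scheme.Modules.restrictFunctorCongr hjj.symm ≪≫
    Scheme.Modules.restrictFunctorComp jj.isoOpensRange.inv jj
  let R' := Scheme.Modules.restrictFunctor jj.isoOpensRange.inv
  let p₁ : FlatMod.freeMod W n ⟶ (Scheme.Modules.restrictFunctor jj).obj M :=
    (DCoh.restrictFreeModIso W.ι n).inv ≫ l ≫ (Scheme.Modules.restrictFunctorComp W.ι V.ι).inv.app M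
  have : Epi p₁ := @epi_comp _ _ _ _ _ _ inferInstance _ (@epi_comp _ _ _ _ _ _ hl' _ inferInstance)
  refine ⟨jj.opensRange, (DCoh.restrictFreeModIso _ n).inv ≫ R'.map p₁ ≫ c.inv.app _, ⟨⟨⟨i x, hx⟩, hW⟩, rfl⟩, ?_⟩
  exact @epi_comp _ _ _ _ _ _ inferInstance _ (@epi_comp _ _ _ _ _ _ inferInstance _ inferInstance)

end GrothLib.ThickDesc6
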