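import Groth.Agent.Lib.DCxRing.TorIndepSquare
import Groth.Agent.Lib.DCxRing.Reduction
import Groth.Agent.Lib.DCxRing.Restrict
import Groth.Agent.Lib.DCxKFlat.LBaseKFlat

/-! # Tor amplitude over the base descends along nilpotent surjections -/

set_option autoImplicit false
set_option maxHeartbeats 800000
set_option backward.isDefEq.respectTransparency false
set_option linter.style.haveILetI false
universe u

open CategoryTheory CategoryTheory.Limits MonoidalCategory HomologicalComplex TensorProduct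

attribute [local instance] HasDerivedCategory.standard

namespace GrothLib.ThickDesc6

variable {A A₀ R S : Type u} [CommRing A] [CommRing A₀] [CommRing R] [CommRing S]

/-- A square of surjections with extended kernel is cocartesian. -/
theorem isPushoutHom_of_surjective (β : A →+* R) (ψ : A →+* A₀) (φ : R →+* S) (α : A₀ →+* S)
    (h : φ.comp β = α.comp ψ) (hψ : Function.Surjective ψ) (hφ : Function.Surjective φ)
    (hker : RingHom.ker φ ≤ (RingHom.ker ψ).map β) : DR.IsPushoutHom β ψ φ α h := by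
  unfold DR.IsPushoutHom
  letI := β.toAlgebra
  letI := ψ.toAlgebra
  letI := φ.toAlgebra
  letI := α.toAlgebra
  letI := (φ.comp β).toAlgebra
  haveI : IsScalarTower A R S := IsScalarTower.of_algebraMap_eq' rfl
  haveI : IsScalarTower A A₀ S := IsScalarTower.of_algebraMap_eq' h
  let Φ : A₀ ⊗[A] R →ₐ[A₀] S :=
    Algebra.TensorProduct.lift (Algebra.ofId A₀ S) (IsScalarTower.toAlgHom A R S) fun _ _ => Commute.all _ _
  have hΦ : ∀ r, Φ (1 ⊗ₜ[A] r) = φ r := fun r => by
    show algebraMap A₀ S 1 * φ r = φ r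
    rw [map_one, one_mul]
  have hgen : ∀ t : A₀ ⊗[A] R, ∃ r, t = 1 ⊗ₜ[A] r := fun t => by
    induction t using TensorProduct.induction_on with
    | zero => exact ⟨0, (TensorProduct.tmul_zero _ _).symm⟩
    | tmul a r =>
      obtain ⟨a', rfl⟩ := hψ a
      refine ⟨a' • r, ?_⟩
      rw [← TensorProduct.smul_tmul, Algebra.smul_def, mul_one]
      rfl
    | add x y hx hy =>
      obtain ⟨p, rfl⟩ := hx
      obtain ⟨q, rfl⟩ := hy
      exact ⟨p + q, (TensorProduct.tmul_add _ _ _).symm⟩
  have hbij : Function.Bijective Φ := by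
    refine ⟨(injective_iff_map_eq_zero Φ).2 fun t ht => ?_, fun s => ?_⟩
    · obtain ⟨r, rfl⟩ := hgen t
      rw [hΦ] at ht
      have hle : (RingHom.ker ψ).map β ≤
          RingHom.ker (Algebra.TensorProduct.includeRight : R →ₐ[A] A₀ ⊗[A] R).toRingHom := by
        rw [Ideal.map_le_iff_le_comap]
        intro a ha
        show (1 : A₀) ⊗ₜ[A] algebraMap A R a = 0
        rw [Algebra.algebraMap_eq_smul_one, ← TensorProduct.smul_tmul, Algebra.smul_def, mul_one,
          show algebraMap A A₀ a = 0 from ha, TensorProduct.zero_tmul]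
      exact hle (hker ht)
    · obtain ⟨r, rfl⟩ := hφ s
      exact ⟨1 ⊗ₜ r, hΦ r⟩
  exact ⟨IsBaseChange.of_equiv (AlgEquiv.ofBijective Φ hbij).toLinearEquiv fun r => hΦ r⟩

/-- Restriction along a flat map preserves K-flatness. -/
theorem isKFlat_restrictCx_of_flat (β : A →+* R) (hβ : β.Flat) {P : DRing.Cx R} (hP : KF.IsKFlat P) :
    KF.IsKFlat ((DRing.restrictCx β).obj P) := by
  letI := β.toAlgebra
  haveI : Module.Flat A R := hβ
  haveI := DR.preservesFiniteLimits_extendScalars (algebraMap A R) DR.flat_algebraMap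
  haveI : (ModuleCat.extendScalars.{u, u, u} β).IsLeftAdjoint :=
    (ModuleCat.extendRestrictScalarsAdj.{u, u, u} β).isLeftAdjoint
  haveI : PreservesFiniteColimits (ModuleCat.extendScalars.{u, u, u} β) :=
    PreservesColimitsOfSize.preservesFiniteColimits.{u, u} _
  refine (KF.isKFlat_iff _).2 fun L hL => ?_
  have hbc : ((DR.bc β).obj L).Acyclic := fun i => DR.exactAt_map_exact _ (hL i)
  have h1 : (((KF.tensorCx (R := R)).obj P).obj ((DR.bc β).obj L)).Acyclic :=
    DerCat.acyclic_of_iso (KF.tensorCxSymm _ _) ((KF.isKFlat_iff P).1 hP _ hbc)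
  have h2 : ((DRing.restrictCx β).obj (((KF.tensorCx (R := R)).obj P).obj ((DR.bc β).obj L))).Acyclic :=
    fun i => (KF.exactAt_restrict_iff β _ i).2 (h1 i)
  exact DerCat.acyclic_of_iso (KF.baseChangeTensorIso β P L ≪≫ KF.tensorCxSymm _ _) h2

/-- Flat terms restrict to flat terms along a flat map. -/
theorem termwiseFlat_restrictCx (β : A →+* R) (hβ : β.Flat) {P : DRing.Cx R} (hP : DRing.TermwiseFlat P) :
    DRing.TermwiseFlat ((DRing.restrictCx β).obj P) := fun i => by
  letI := β.toAlgebra
  haveI : Module.Flat A R := hβ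
  haveI : Module.Flat R (P.X i) := hP i
  letI : Module A (P.X i) := Module.compHom _ β
  haveI : IsScalarTower A R (P.X i) := IsScalarTower.of_algebraMap_smul fun _ _ => rfl
  exact Module.Flat.trans A R (P.X i)

/-- Tor amplitude over the base descends along nilpotent surjections. -/
theorem hasTorAmplitudeIn_restrict_of_bc (β : A →+* R) (hβ : β.Flat) (ψ : A →+* A₀) (φ : R →+* S) (α : A₀ →+* S)
    (h : φ.comp β = α.comp ψ) (hψ : Function.Surjective ψ) (hnil : IsNilpotent (RingHom.ker ψ))
    (hφ : Function.Surjective φ) (hker : RingHom.ker φ ≤ (RingHom.ker ψ).map β)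
    {P : DRing.Cx R} (hP : KF.IsKFlat P) (a b : ℤ)
    (hamp : DRing.HasTorAmplitudeIn A₀ a b (DRing.toD ((DRing.restrictCx α).obj ((DR.bc φ).obj P)))) :
    DRing.HasTorAmplitudeIn A a b (DRing.toD ((DRing.restrictCx β).obj P)) := by
  haveI := KF.hasLBaseChange ψ
  obtain ⟨v⟩ := KF.lBase_value ψ (isKFlat_restrictCx_of_flat β hβ hP)
  have hiso := DR.isIso_canCx h (isPushoutHom_of_surjective β ψ φ α h hψ hφ hker) P
  exact DR.hasTorAmplitudeIn_of_lBase ψ hψ hnil _ a b (DR.hasTorAmplitudeIn_of_iso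
    (DerivedCategory.Q.mapIso (asIso (DR.canCx h P)).symm ≪≫ v.symm) hamp)

end GrothLib.ThickDesc6
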