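import Groth.Agent.Lib.ThickDesc6.Main
import Groth.Agent.Lib.ThickDesc6.Ring
import Groth.Agent.Lib.RelReg.FibreLift
import Groth.Prelude.Def_DerSch2

/-! # Relative tor amplitude descends along base changes of nilpotent thickenings -/

set_option autoImplicit false
set_option maxHeartbeats 1600000
set_option backward.isDefEq.respectTransparency false
set_option linter.style.haveILetI false
universe u

open CategoryTheory CategoryTheory.Limits AlgebraicGeometry HomologicalComplex

attribute [local instance] HasDerivedCategory.standard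

namespace GrothLib.ThickDesc6

open GrothLib.OX GrothLib.KSix19

variable {X X' Y Y' : Scheme.{u}} {f : X ⟶ Y} {f' : X' ⟶ Y'} {i : X ⟶ X'} {j : Y ⟶ Y'}

/-- The algebra of a base change of a closed immersion, at a point. -/
theorem exists_stalk_square (sq : IsPullback i f f' j) [IsClosedImmersion j] (x : X) :
    ∃ ψ : Y'.presheaf.stalk (f' (i x)) →+* Y.presheaf.stalk (f x),
      (i.stalkMap x).hom.comp (f'.stalkMap (i x)).hom = (f.stalkMap x).hom.comp ψ ∧
        Function.Surjective ψ ∧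
        (IsNilpotent (RingHom.ker (j.stalkMap (f x)).hom) → IsNilpotent (RingHom.ker ψ)) ∧
        RingHom.ker (i.stalkMap x).hom = (RingHom.ker ψ).map (f'.stalkMap (i x)).hom := by
  have hx : f' (i x) = j (f x) := by
    rw [← Scheme.Hom.comp_apply, ← Scheme.Hom.comp_apply, sq.w]
  let c := Y'.presheaf.stalkCongr (.of_eq hx)
  let c' := Y'.presheaf.stalkCongr (Inseparable.of_eq hx.symm)
  have hcc : c'.hom ≫ c.hom = 𝟙 _ := by
    simp only [c, c', TopCat.Presheaf.stalkCongr_hom, TopCat.Presheaf.stalkSpecializes_comp,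
      TopCat.Presheaf.stalkSpecializes_refl]
  let ψ : Y'.presheaf.stalk (f' (i x)) ⟶ Y.presheaf.stalk (f x) := c.hom ≫ j.stalkMap (f x)
  have hcomm : f'.stalkMap (i x) ≫ i.stalkMap x = ψ ≫ f.stalkMap x := by
    rw [← Scheme.Hom.stalkMap_comp, Scheme.Hom.stalkMap_congr_hom (i ≫ f') (f ≫ j) sq.w x,
      Scheme.Hom.stalkMap_comp]
    rfl
  refine ⟨ψ.hom, congrArg CommRingCat.Hom.hom hcomm, ?_, ?_, ?_⟩
  · exact (j.stalkMap_surjective (f x)).comp (ConcreteCategory.bijective_of_isIso c.hom).2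
  · rintro ⟨n, hn⟩
    refine ⟨n, le_bot_iff.1 fun r hr => ?_⟩
    have hle : (RingHom.ker ψ.hom).map c.hom.hom ≤ RingHom.ker (j.stalkMap (f x)).hom :=
      Ideal.map_le_iff_le_comap.2 fun _ h => h
    have h := Ideal.pow_right_mono hle n (Ideal.map_pow c.hom.hom (RingHom.ker ψ.hom) n ▸ Ideal.mem_map_of_mem c.hom.hom hr)
    rw [hn] at h
    exact (map_eq_zero_iff c.hom.hom (ConcreteCategory.bijective_of_isIso c.hom).1).1 h
  · obtain ⟨U, hU, hzU, -⟩ := exists_isAffineOpen_mem_and_subset (U := (⊤ : Y'.Opens)) (x := j (f x)) trivial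
    rw [RelReg.ker_stalkMap_of_isPullback sq.flip ⟨U, hU⟩ inferInstance (f x) hzU x hx]
    have h1 : RingHom.ker ψ.hom = (RingHom.ker (j.stalkMap (f x)).hom).map c'.hom.hom := by
      refine le_antisymm (fun r hr => ?_) (Ideal.map_le_iff_le_comap.2 fun s hs => ?_)
      · have h2 : r = c'.hom (c.hom r) := by
          refine (ConcreteCategory.bijective_of_isIso c.hom).1 ?_
          exact (ConcreteCategory.congr_hom hcc (c.hom r)).symm
        rw [h2]
        exact Ideal.mem_map_of_mem _ hr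
      · show (j.stalkMap (f x)).hom (c.hom (c'.hom s)) = 0
        have h3 : c.hom (c'.hom s) = s := ConcreteCategory.congr_hom hcc s
        rw [h3]; exact hs
    rw [h1, Ideal.map_map]
    rfl

/-- The base change of a nilpotent thickening is one. -/
theorem thick_of_isPullback (sq : IsPullback i f f' j) (hj : Thick j) : Thick i := by
  have := hj.closed
  have : Surjective j := ⟨hj.surj⟩
  have hci : IsClosedImmersion i := MorphismProperty.of_isPullback sq.flip inferInstance
  have hs : Surjective i := MorphismProperty.of_isPullback sq.flip inferInstance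
  refine ⟨hci, hs.surj, fun x => ?_⟩
  obtain ⟨ψ, -, -, hn, hk⟩ := exists_stalk_square sq x
  obtain ⟨n, h⟩ := hn (hj.nil _)
  exact ⟨n, by rw [hk, ← Ideal.map_pow, h, Ideal.zero_eq_bot, Ideal.map_bot]; rfl⟩

/-- Relative tor amplitude descends, at a point. -/
theorem hasTorAmplitudeAt_of_lpull (sq : IsPullback i f f' j) (hj : Thick j) [Flat f'] [DCoh.HasLpull i]
    {F : CochainComplex X.Modules ℤ} {F' : CochainComplex X'.Modules ℤ}
    (e : DCoh.toD X F ≅ (DCoh.Lpull i).obj (DCoh.toD X' F')) {a b : ℤ} (x : X)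
    (h : DerSch.HasTorAmplitudeAt f a b F x) : DerSch.HasTorAmplitudeAt f' a b F' (i x) := by
  have := hj.closed
  have hi := thick_of_isPullback sq hj
  have := hi.closed
  obtain ⟨ψ, hc, hψ, hn, hk⟩ := exists_stalk_square sq x
  obtain ⟨P, hP, ⟨eP⟩⟩ := exists_kflat_rep (DCoh.toD X' F')
  obtain ⟨v⟩ := lpull_value i P hP
  let P' := ((Scheme.Modules.pullback i).mapHomologicalComplex (ComplexShape.up ℤ)).obj P
  obtain ⟨w⟩ := nonempty_stalkCx_iso x (show DerivedCategory.Q.obj P' ≅ DerivedCategory.Q.obj F from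
    v.symm ≪≫ (DCoh.Lpull i).mapIso eP ≪≫ e.symm)
  obtain ⟨w'⟩ := nonempty_stalkCx_iso (i x) (show DerivedCategory.Q.obj P ≅ DerivedCategory.Q.obj F' from eP)
  obtain ⟨a₁⟩ := nonempty_stalkCxOver f x F
  obtain ⟨a₂⟩ := nonempty_stalkCxOver f' (i x) F'
  let s : (stalkCx x).obj P' ≅ (DR.bc (i.stalkMap x).hom).obj ((stalkCx (i x)).obj P) :=
    (NatIso.mapHomologicalComplex (pullStalkIso i x) (ComplexShape.up ℤ)).app P
  have hamp := DR.hasTorAmplitudeIn_of_iso
    (a₁ ≪≫ (DRing.restrictD (f.stalkMap x).hom).mapIso w.symm ≪≫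
      DR.restrictToDIso _ _ ≪≫ DerivedCategory.Q.mapIso ((DRing.restrictCx (f.stalkMap x).hom).mapIso s)) h
  exact DR.hasTorAmplitudeIn_of_iso
    ((DR.restrictToDIso _ _).symm ≪≫ (DRing.restrictD (f'.stalkMap (i x)).hom).mapIso w' ≪≫ a₂.symm)
    (hasTorAmplitudeIn_restrict_of_bc (f'.stalkMap (i x)).hom (Flat.stalkMap f' (i x)) ψ (i.stalkMap x).hom
      (f.stalkMap x).hom hc hψ (hn (hj.nil _)) (i.stalkMap_surjective x) hk.le (isKFlat_stalk hP (i x)) a b hamp)

/-- Locally finite relative tor amplitude descends along base changes of nilpotent thickenings. -/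
theorem locFiniteTorAmplitudeD_of_lpull (sq : IsPullback i f f' j) (hj : Thick j) [Flat f'] [DCoh.HasLpull i]
    {E' : DCoh.D X'} {F : CochainComplex X.Modules ℤ} (e : DCoh.toD X F ≅ (DCoh.Lpull i).obj E')
    (hF : DerSch.LocFiniteTorAmplitude f F) : DerSch.LocFiniteTorAmplitudeD f' E' := fun F' ⟨eF'⟩ y => by
  have hi := thick_of_isPullback sq hj
  have := hi.closed
  obtain ⟨x, rfl⟩ := hi.surj y
  obtain ⟨U, a, b, hxU, hU⟩ := hF x
  obtain ⟨V, rfl⟩ := exists_preimage_eq i (U' := U)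
  refine ⟨V, a, b, hxU, fun y' hy' => ?_⟩
  obtain ⟨x', rfl⟩ := hi.surj y'
  exact hasTorAmplitudeAt_of_lpull sq hj (e ≪≫ (DCoh.Lpull i).mapIso eF'.symm) x' (hU x' hy')

end GrothLib.ThickDesc6
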