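import Groth.Agent.Lib.ThickDesc6.Stalk
import Groth.Agent.Lib.KSix19.TensorStalk
import Groth.Agent.Lib.OX.FlatRes
import Groth.Agent.Lib.DCxRing.NilLift

/-! # Cohomological bounds descend along nilpotent thickenings -/

set_option autoImplicit false
set_option maxHeartbeats 800000
set_option backward.isDefEq.respectTransparency false
set_option linter.style.haveILetI false
universe u

open CategoryTheory CategoryTheory.Limits AlgebraicGeometry HomologicalComplex MonoidalCategory

attribute [local instance] HasDerivedCategory.standard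

namespace GrothLib.ThickDesc6

open GrothLib.OX GrothLib.KSix19

variable {X X' : Scheme.{u}}

/-- A closed immersion all whose stalk maps have nilpotent kernel. -/
structure Thick (i : X ⟶ X') : Prop where
  closed : IsClosedImmersion i
  surj : Function.Surjective i
  nil : ∀ x : X, IsNilpotent (RingHom.ker (i.stalkMap x).hom)

theorem thick_of_finiteOrder {i : X ⟶ X'} (hi : MoreMor.IsFiniteOrderThickening i) : Thick i :=
  ⟨hi.1.1, hi.1.2.surj, isNilpotent_ker_stalkMap i hi⟩

/-- The stalks of a K-flat complex are K-flat. -/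
theorem isKFlat_stalk {P : CochainComplex X.Modules ℤ} (hP : DCoh.IsKFlat P) (x : X) :
    KF.IsKFlat ((stalkCx x).obj P) := by
  refine (KF.isKFlat_iff _).2 fun L hL => ?_
  have : (sky x).PreservesEpimorphisms := ⟨fun g _ => skyEpi x g⟩
  have : PreservesFiniteLimits (sky x) := PreservesLimits.preservesFiniteLimits (sky x)
  have : (sky x).PreservesHomology := (sky x).preservesHomology_of_preservesEpis_and_kernels
  let L' := ((sky x).mapHomologicalComplex (ComplexShape.up ℤ)).obj L
  have hL' : L'.Acyclic := acyclic_map (sky x) (fun _ hS => hS.map (sky x)) L hL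
  let e : (stalkCx x).obj L' ≅ L :=
    HomologicalComplex.Hom.isoOfComponents (fun k => asIso ((stalkSkyAdj x).counit.app (L.X k)))
      (fun j k _ => ((stalkSkyAdj x).counit.naturality (L.d j k)).symm)
  exact DerCat.acyclic_of_iso (stalkTensorCxIso x L' P ≪≫ ((KF.tensorCx (R := X.presheaf.stalk x)).mapIso e).app _)
    (acyclic_map (stalk x) (fun _ hS => hS.map (stalk x)) _ ((OX.isKFlat_iff P).1 hP L' hL'))

/-- A K-flat complex is exact where its reduction modulo a nilpotent ideal is. -/
theorem exactAt_of_bc {A B : Type u} [CommRing A] [CommRing B] (φ : A →+* B) (hφ : Function.Surjective φ)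
    (hn : IsNilpotent (RingHom.ker φ)) {P : DRing.Cx A} (hPf : DRing.TermwiseFlat P) (hP : KF.IsKFlat P)
    {b : ℤ} (h : ∀ j, b < j → ((DR.bc φ).obj P).ExactAt j) (i : ℤ) (hi : b < i) : P.ExactAt i := by
  obtain ⟨E, hEb, hEp, ⟨e⟩⟩ := DR.exists_projective_rep (DRing.toD ((DR.bc φ).obj P)) b
    fun j hj => (DR.exactAt_iff _ j).1 (h j hj)
  have hM : ∀ M : ModuleCat.{u} B, (DRing.tensorCx ((DR.bc φ).obj P) M).ExactAt i := fun M => by
    haveI := KF.hasLTensor M
    obtain ⟨v₁⟩ := KF.lTensor_value M (KF.isKFlat_of_vanishesAbove hEb (DR.termwiseFlat_of_projective hEp))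
    obtain ⟨v₂⟩ := KF.lTensor_value M (KF.isKFlat_bc φ hP)
    refine (DR.exactAt_iff _ i).2 (DR.subsingleton_HD_of_iso (v₁.symm ≪≫ (DRing.LTensor B M).mapIso e ≪≫ v₂) i
      ((DR.exactAt_iff _ i).1 (ShortComplex.exact_of_isZero_X₂ _ ?_)))
    exact ((MonoidalCategory.tensorRight M).map_isZero (hEb i hi))
  obtain ⟨k, hk⟩ := hn
  exact (DR.exactAt_tensor_of_pow hPf (RingHom.ker φ) i
    (fun N hN => DR.exactAt_tensor_of_killed φ hφ i hM N hN) k (ModuleCat.of A A)
    (by rw [hk, Submodule.zero_eq_bot, Submodule.bot_smul])).of_iso (KF.tensorCxUnitIso P)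

/-- Vanishing of the cohomology above `b` descends along a nilpotent thickening. -/
theorem isZero_stalk_HD {i : X ⟶ X'} (hi : Thick i) [DCoh.HasLpull i] (K' : DCoh.D X') (b : ℤ) (x : X)
    (h : ∀ j, b < j → IsZero ((stalk x).obj (DCoh.HD ((DCoh.Lpull i).obj K') j))) (j : ℤ) (hj : b < j) :
    IsZero ((stalk (i x)).obj (DCoh.HD K' j)) := by
  have := hi.closed
  obtain ⟨P, q, hP, hPf, hq, -⟩ := exists_kflat_resolution (DerivedCategory.Q.objPreimage K')
  let e : DerivedCategory.Q.obj P ≅ K' :=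
    asIso (DerivedCategory.Q.map q) ≪≫ DerivedCategory.Q.objObjPreimageIso K'
  obtain ⟨v⟩ := lpull_value i P hP
  let φ := (i.stalkMap x).hom
  let P' := ((Scheme.Modules.pullback i).mapHomologicalComplex (ComplexShape.up ℤ)).obj P
  let s : (stalkCx x).obj P' ≅ (DR.bc φ).obj ((stalkCx (i x)).obj P) :=
    (NatIso.mapHomologicalComplex (pullStalkIso i x) (ComplexShape.up ℤ)).app P
  have hbc : ∀ k, b < k → ((DR.bc φ).obj ((stalkCx (i x)).obj P)).ExactAt k := fun k hk => by
    refine (KF.exactAt_iff_of_iso s k).1 ?_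
    rw [exactAt_iff_isZero_homology]
    refine (h k hk).of_iso ((P'.sc k).mapHomologyIso (stalk x) ≪≫ (stalk x).mapIso ?_)
    exact (hdIso P' k).symm ≪≫ (DerivedCategory.homologyFunctor _ k).mapIso
      (v.symm ≪≫ (DCoh.Lpull i).mapIso e)
  have hz := exactAt_of_bc φ (i.stalkMap_surjective x) (hi.nil x)
    (fun k => (GrothLib.OX.flat_iff _).1 (hPf k) (i x)) (isKFlat_stalk hP (i x)) hbc j hj
  rw [exactAt_iff_isZero_homology] at hz
  exact hz.of_iso (((stalk (i x)).mapIso ((DerivedCategory.homologyFunctor _ j).mapIso e.symm ≪≫ hdIso P j)) ≪≫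
    ((P.sc j).mapHomologyIso (stalk (i x))).symm)

/-- Vanishing of the cohomology above `b` descends along a nilpotent thickening. -/
theorem isLE_of_lpull {i : X ⟶ X'} (hi : Thick i) [DCoh.HasLpull i] (K' : DCoh.D X') (b : ℤ)
    (h : ((DCoh.Lpull i).obj K').IsLE b) : K'.IsLE b := by
  refine (DerivedCategory.isLE_iff _ _).2 fun j hj => (IsZero.iff_id_eq_zero _).2 ?_
  rw [eq_zero_iff]
  intro y
  obtain ⟨x, rfl⟩ := hi.surj y
  exact (isZero_stalk_HD hi K' b x (fun k hk => (stalk x).map_isZero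
    (DerivedCategory.isZero_of_isLE _ b k hk)) j hj).eq_of_src _ _

end GrothLib.ThickDesc6
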