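import Groth.Agent.Lib.ThickDesc6.Pull

/-! # Pseudo-coherence descends along nilpotent thickenings -/

set_option autoImplicit false
set_option maxHeartbeats 1600000
set_option backward.isDefEq.respectTransparency false
set_option linter.style.haveILetI false
universe u

open CategoryTheory CategoryTheory.Limits AlgebraicGeometry HomologicalComplex CategoryTheory.Pretriangulated

attribute [local instance] HasDerivedCategory.standard

namespace GrothLib.ThickDesc6

open GrothLib.OX GrothLib.KSix19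

theorem isPseudoCoherentD_of_lpull_aux (m : ℤ) :
    ∀ (d : ℕ) {X X' : Scheme.{u}} (i : X ⟶ X') (_ : Thick i) [DCoh.HasLpull i] (K' : DCoh.D X'),
      K'.IsLE (m - 1 + d) → (∀ k, DCoh.IsPseudoCoherentD k ((DCoh.Lpull i).obj K')) →
        DCoh.IsPseudoCoherentD m K'
  | 0, X, X', i, _, _, K', hK, _ => by
    have : K'.IsLE (m - 1) := by simpa using hK
    exact isPseudoCoherentD_iff.2 fun x => ⟨_, 𝟙 _, inferInstance, ⟨x, rfl⟩, (approx_of_isLE this).restrict (𝟙 _)⟩
  | d + 1, X, X', i, hi, _, K', hK, hpc => by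
    let b : ℤ := m + d
    have hb : m - 1 + ((d + 1 : ℕ) : ℤ) = b := by simp only [b]; push_cast; omega
    rw [hb] at hK
    have := hi.closed
    refine isPseudoCoherentD_iff.2 (Locally.of_local Approx.of_iso fun y => ?_)
    obtain ⟨x, rfl⟩ := hi.surj y
    have hL := isLE_lpull i hK
    obtain ⟨U, n, p, hxU, hp⟩ := exists_free_epi_top (hpc b)
      (fun k hk => DerivedCategory.isZero_of_isLE _ b k hk) x
    obtain ⟨e⟩ := nonempty_hd_lpull_top i K' b hK
    let p' := p ≫ (Scheme.Modules.restrictFunctor U.ι).map e.hom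
    have : Epi p' := @epi_comp _ _ _ _ _ p hp _ inferInstance
    obtain ⟨V, q, hxV, hq⟩ := exists_free_epi_of_pullback hi (DCoh.HD K' b) x hxU p'
    obtain ⟨e₁⟩ := nonempty_hd_resD V.ι K' b
    let g : FlatMod.freeMod V.toScheme n ⟶ DCoh.HD ((resD V.ι).obj K') b := q ≫ e₁.inv
    have : Epi g := @epi_comp _ _ _ _ _ q hq _ inferInstance
    obtain ⟨W, Tc, φ, v, w, hyW, hT, hTle⟩ := exists_top_triangle (isLE_resD V.ι hK) g ⟨i x, hxV⟩
    let i₁ := i ∣_ V
    let i₂ := i₁ ∣_ W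
    have hi₁ : Thick i₁ := thick_restrict hi V
    have hi₂ : Thick i₂ := thick_restrict hi₁ W
    haveI := hasLpull i₁
    haveI := hasLpull i₂
    obtain ⟨a₁⟩ := nonempty_resD_lpull i V K'
    obtain ⟨a₂⟩ := nonempty_resD_lpull i₁ W ((resD V.ι).obj K')
    have hK₂ : ∀ k, DCoh.IsPseudoCoherentD k ((DCoh.Lpull i₂).obj ((resD W.ι).obj ((resD V.ι).obj K'))) := fun k =>
      isPseudoCoherentD_of_iso (isPseudoCoherentD_resD' _
        (isPseudoCoherentD_of_iso (isPseudoCoherentD_resD' _ (hpc k)) a₁.symm)) a₂.symm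
    obtain ⟨T', hT', ⟨c₁⟩, ⟨c₂⟩, ⟨c₃⟩⟩ := exists_lpull_triangle i₂ hT
    have hTpc : ∀ k, DCoh.IsPseudoCoherentD k ((DCoh.Lpull i₂).obj Tc) := fun k =>
      isPseudoCoherentD_of_iso ((isPseudoCoherentD_triangle k hT').1
        (isPseudoCoherentD_of_iso (pc_lpull_single_free W i₂ n b (k + 1)) c₁.symm)
        (isPseudoCoherentD_of_iso (hK₂ k) c₂.symm)) c₃
    have hTle' : Tc.IsLE (m - 1 + d) := by
      rw [show m - 1 + (d : ℤ) = b - 1 by simp only [b]; omega]; exact hTle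
    have hTm := isPseudoCoherentD_of_lpull_aux m d i₂ hi₂ Tc hTle' hTpc
    have hKm := (isPseudoCoherentD_triangle m hT).2.1 (pc_single_free W n b m) hTm
    refine ⟨_, W.ι ≫ V.ι, inferInstance, ⟨⟨⟨i x, hxV⟩, hyW⟩, rfl⟩, isPseudoCoherentD_iff.1 ?_⟩
    exact isPseudoCoherentD_of_iso hKm (nonempty_resD_comp W.ι V.ι K').some.symm

/-- **Pseudo-coherence descends along a nilpotent thickening.** -/
theorem isPseudoCoherentD_of_lpull {X X' : Scheme.{u}} (i : X ⟶ X') (hi : Thick i) [DCoh.HasLpull i]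
    (K' : DCoh.D X') (hpc : ∀ k, DCoh.IsPseudoCoherentD k ((DCoh.Lpull i).obj K')) (m : ℤ) :
    DCoh.IsPseudoCoherentD m K' := by
  have := hi.closed
  refine isPseudoCoherentD_iff.2 (Locally.of_local Approx.of_iso fun y => ?_)
  obtain ⟨x, rfl⟩ := hi.surj y
  obtain ⟨U, hxU, P, α, hP, hα⟩ := Approx.exists_open (hpc m) x
  obtain ⟨V, rfl⟩ := exists_preimage_eq i (U' := U)
  obtain ⟨⟨a, c, hac⟩, -⟩ := hP
  let b := max m c
  haveI := hasLpull (i ∣_ V)
  obtain ⟨a₁⟩ := nonempty_resD_lpull i V K'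
  have hLE : ((DCoh.Lpull (i ∣_ V)).obj ((resD V.ι).obj K')).IsLE b := by
    refine (DerivedCategory.isLE_iff _ _).2 fun k hk => ?_
    have := hα.1 k (lt_of_le_of_lt (le_max_left _ _) hk)
    exact ((exactAt_iff_isZero_homology _ k).1 (ExactAt.of_isZero
      (hac k (Or.inr (lt_of_le_of_lt (le_max_right m c) hk))))).of_iso
        ((DerivedCategory.homologyFunctor _ k).mapIso a₁ ≪≫
          (asIso ((DerivedCategory.homologyFunctor _ k).map α)).symm ≪≫ hdIso P k)
  have hK := isLE_of_lpull (thick_restrict hi V) _ b hLE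
  refine ⟨V.toScheme, V.ι, inferInstance, ⟨⟨i x, hxU⟩, rfl⟩, isPseudoCoherentD_iff.1 ?_⟩
  refine isPseudoCoherentD_of_lpull_aux m (b - m + 1).toNat (i ∣_ V) (thick_restrict hi V) _ ?_
    (fun k => isPseudoCoherentD_of_iso (isPseudoCoherentD_resD' _ (hpc k)) a₁.symm)
  rw [show m - 1 + ((b - m + 1).toNat : ℤ) = b by have := le_max_left m c; omega]
  exact hK

end GrothLib.ThickDesc6
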