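import Mathlib.AlgebraicGeometry.IdealSheaf.Basic
import Mathlib.AlgebraicGeometry.Morphisms.ClosedImmersion
import Groth.Prelude.Def_MoreMor

/-! # Stalks of finite order thickenings -/

set_option autoImplicit false
universe u

open CategoryTheory AlgebraicGeometry TopologicalSpace Opposite

namespace GrothLib.ThickDesc6

variable {X X' : Scheme.{u}} (i : X ⟶ X')

/-- The kernel of a stalk map of a closed immersion comes from any affine neighbourhood. -/
theorem ker_stalkMap_le [IsClosedImmersion i] (x : X) (V : X'.affineOpens)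
    (hV : i x ∈ V.1) :
    RingHom.ker (i.stalkMap x).hom ≤ (i.ker.ideal V).map (X'.presheaf.germ V.1 (i x) hV).hom := by
  intro z hz
  obtain ⟨U, hU, a, rfl⟩ := X'.presheaf.germ_exist z
  rw [RingHom.mem_ker, i.germ_stalkMap_apply U x hU a,
    ← map_zero (X.presheaf.germ (i ⁻¹ᵁ U) x hU).hom] at hz
  obtain ⟨W, hxW, iU, iU', hW⟩ := X.presheaf.germ_eq x hU hU _ _ hz
  obtain ⟨W₀, hW₀, hW₀'⟩ := i.isClosedEmbedding.isInducing.isOpen_iff.1 W.2
  have hxW₀ : i x ∈ W₀ := (Set.ext_iff.1 hW₀' x).2 hxW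
  obtain ⟨A, hA, hxA, hAsub⟩ := exists_isAffineOpen_mem_and_subset
    (U := V.1 ⊓ U ⊓ (⟨W₀, hW₀⟩ : X'.Opens)) (x := i x) ⟨⟨hV, hU⟩, hxW₀⟩
  have hAV : A ≤ V.1 := fun y hy => (hAsub hy).1.1
  have hAU : A ≤ U := fun y hy => (hAsub hy).1.2
  have hAW : i ⁻¹ᵁ A ≤ W := fun y hy => by
    have hy' : i y ∈ W₀ := (hAsub hy).2
    show y ∈ (W : Set X)
    exact (Set.ext_iff.1 hW₀' y).1 hy'
  have hb : (X'.presheaf.map (homOfLE hAU).op).hom a ∈ i.ker.ideal ⟨A, hA⟩ := by
    rw [Scheme.Hom.ker_apply, RingHom.mem_ker]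
    have e := ConcreteCategory.congr_hom (i.naturality (homOfLE hAU).op) a
    refine e.trans ?_
    have hfac : (Opens.map i.base).map (homOfLE hAU) = homOfLE hAW ≫ iU := Subsingleton.elim _ _
    show (X.presheaf.map ((Opens.map i.base).map (homOfLE hAU)).op).hom _ = 0
    rw [hfac, op_comp, Functor.map_comp]
    refine (congrArg (X.presheaf.map (homOfLE hAW).op).hom (hW.trans ?_)).trans (map_zero _)
    exact map_zero _
  have hm : Ideal.map (X'.presheaf.map (homOfLE hAV).op).hom (i.ker.ideal V) = i.ker.ideal ⟨A, hA⟩ :=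
    i.ker.map_ideal (U := ⟨A, hA⟩) (V := V) hAV
  rw [← hm] at hb
  have h2 := Ideal.mem_map_of_mem (X'.presheaf.germ A (i x) hxA).hom hb
  rw [Ideal.map_map, ← CommRingCat.hom_comp, X'.presheaf.germ_res (homOfLE hAV) (i x) hxA,
    TopCat.Presheaf.germ_res_apply] at h2
  exact h2

/-- The kernel of the stalk maps of a finite order thickening is nilpotent. -/
theorem isNilpotent_ker_stalkMap (hi : MoreMor.IsFiniteOrderThickening i) (x : X) :
    IsNilpotent (RingHom.ker (i.stalkMap x).hom) := by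
  obtain ⟨⟨hci, -⟩, n, hn⟩ := hi
  have : IsClosedImmersion i := hci
  obtain ⟨A, hA, hxA, -⟩ := exists_isAffineOpen_mem_and_subset (U := (⊤ : X'.Opens)) (x := i x) trivial
  refine ⟨n, le_bot_iff.1 ((Ideal.pow_right_mono (ker_stalkMap_le i x ⟨A, hA⟩ hxA) n).trans ?_)⟩
  rw [← Ideal.map_pow, ← Pi.pow_apply, ← Scheme.IdealSheafData.ideal_pow, hn,
    Scheme.IdealSheafData.zero_eq_bot, Scheme.IdealSheafData.ideal_bot, Pi.bot_apply, Ideal.map_bot]

end GrothLib.ThickDesc6
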